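import Mathlib
import Cfsg.Prelude.Def_Transfer
import Cfsg.Agent.Solvable.CoprimeAbelian
import Cfsg.Agent.CharP.FStarAction

/-!
An extraspecial group of order `p^(2w+1)` acting faithfully on an elementary abelian `r`-group.
-/

set_option autoImplicit false
set_option linter.style.haveILetI false
set_option linter.unusedSectionVars false

namespace CfsgLib.ExtraAction

open Subgroup
open scoped commutatorElement

/-- Operators on an abelian group whose span over the field generated by a central one is free on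
the cosets of the centre. -/
theorem card_bound {E M : Type*} [Group E] [Finite E] [AddCommGroup M] [Finite M] {p r : ℕ}
    [Fact p.Prime] [hr : Fact r.Prime] (ρ : E →* AddMonoid.End M) (z : E)
    (hz : orderOf z = p) (hcen : ∀ x : E, x ∈ center E ↔ x ∈ zpowers z)
    (hder : ∀ x y : E, ⁅x, y⁆ ∈ center E) (hne : ρ z ≠ 1) (hM : ∀ m : M, r • m = 0)
    (hirr : ∀ W : AddSubgroup M, (∀ e : E, ∀ m ∈ W, ρ e m ∈ W) → W ≠ ⊥ → W = ⊤)
    (w n : ℕ) (hindex : Nat.card (E ⧸ center E) = p ^ (2 * w))
    (hn : ∀ k : ℕ, 1 ≤ k → p ∣ r ^ k - 1 → n ≤ k) :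
    r ^ (n * p ^ w) ≤ Nat.card M := by
  classical
  set K := Subring.closure ({ρ z} : Set (AddMonoid.End M)) with hK
  have hKcomm : ∀ k ∈ K, ∀ e : E, Commute k (ρ e) := by
    intro k hk e
    induction hk using Subring.closure_induction with
    | mem x hx =>
      rw [Set.mem_singleton_iff] at hx
      subst hx
      have : z ∈ center E := (hcen z).2 (mem_zpowers z)
      exact (Commute.map (mem_center_iff.1 this e).symm ρ)
    | zero => exact Commute.zero_left _
    | one => exact Commute.one_left _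
    | add x y _ _ hx hy => exact hx.add_left hy
    | neg x _ hx => exact hx.neg_left
    | mul x y _ _ hx hy => exact hx.mul_left hy
  have hKK : ∀ a b : K, a * b = b * a := by
    intro a b
    apply Subtype.ext
    show Commute (a : AddMonoid.End M) (b : AddMonoid.End M)
    obtain ⟨b, hb⟩ := b
    induction hb using Subring.closure_induction with
    | mem x hx =>
      rw [Set.mem_singleton_iff] at hx
      subst hx
      exact hKcomm a a.2 z
    | zero => exact Commute.zero_right _
    | one => exact Commute.one_right _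
    | add x y _ _ hx hy => exact hx.add_right hy
    | neg x _ hx => exact hx.neg_right
    | mul x y _ _ hx hy => exact hx.mul_right hy
  letI : CommRing K := { (inferInstance : Ring K) with mul_comm := hKK }
  obtain ⟨v₀, hv₀⟩ : ∃ v : M, v ≠ 0 := by
    by_contra hcon
    push Not at hcon
    exact hne (AddMonoidHom.ext fun m => (hcon _).trans (hcon _).symm)
  haveI : Nontrivial M := ⟨⟨v₀, 0, hv₀⟩⟩
  haveI : Finite (AddMonoid.End M) :=
    Finite.of_injective (fun f : AddMonoid.End M => (f : M → M)) DFunLike.coe_injective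
  haveI : Finite K := Subtype.finite
  haveI : Nontrivial K := ⟨⟨0, 1, fun h => hv₀ (by
    have := congrArg (fun k : K => (k : AddMonoid.End M) v₀) h
    simpa using this.symm)⟩⟩
  haveI : NoZeroDivisors K := ⟨fun {a b} hab => by
    by_cases ha : a = 0
    · exact Or.inl ha
    right
    let W : AddSubgroup M :=
      { carrier := {m | (a : AddMonoid.End M) m = 0}
        zero_mem' := map_zero _
        add_mem' := fun {x y} hx hy => by
          simp only [Set.mem_ofPred_eq] at hx hy ⊢
          rw [map_add, hx, hy, add_zero]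
        neg_mem' := fun {x} hx => by
          simp only [Set.mem_ofPred_eq] at hx ⊢
          rw [map_neg, hx, neg_zero] }
    have hW : ∀ m, m ∈ W ↔ (a : AddMonoid.End M) m = 0 := fun m => Iff.rfl
    have hker : W = ⊥ := by
      by_contra hb
      have htop := hirr W (fun e m hm => by
        rw [hW] at hm ⊢
        have h2 : (a : AddMonoid.End M) (ρ e m) = ρ e ((a : AddMonoid.End M) m) :=
          DFunLike.congr_fun (hKcomm a a.2 e).eq m
        rw [h2, hm, map_zero]) hb
      exact ha (Subtype.ext (AddMonoidHom.ext fun m => (hW m).1 (htop ▸ AddSubgroup.mem_top m)))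
    refine Subtype.ext (AddMonoidHom.ext fun m => ?_)
    have h1 : (b : AddMonoid.End M) m ∈ W :=
      (hW _).2 (DFunLike.congr_fun (congrArg Subtype.val hab) m)
    rw [hker, AddSubgroup.mem_bot] at h1
    exact h1⟩
  haveI : IsDomain K := NoZeroDivisors.to_isDomain K
  letI : Field K := (Finite.isDomain_to_isField K).toField
  haveI : Fintype K := Fintype.ofFinite K
  haveI : Fintype (E ⧸ center E) := Fintype.ofFinite _
  -- operators as linear maps
  let L : E → (M →ₗ[K] M) := fun e =>
    { toFun := ρ e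
      map_add' := map_add _
      map_smul' := fun k m => (DFunLike.congr_fun (hKcomm k k.2 e).eq m).symm }
  have hLmul : ∀ x y : E, ∀ m, L (x * y) m = L x (L y m) := fun x y m =>
    DFunLike.congr_fun (map_mul ρ x y) m
  have hL1 : ∀ m, L 1 m = m := fun m => DFunLike.congr_fun (map_one ρ) m
  -- powers of `z` as scalars
  have hsc : ∀ c ∈ center E, ρ c ∈ K := by
    intro c hc
    obtain ⟨i, rfl⟩ := (mem_powers_iff_mem_zpowers).2 ((hcen c).1 hc)
    show ρ (z ^ i) ∈ K
    rw [map_pow]
    exact pow_mem (Subring.subset_closure (Set.mem_singleton _)) i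
  have hinj : ∀ c ∈ center E, ρ c = 1 → c = 1 := by
    intro c hc h1
    by_contra hc1
    apply hne
    have hord : orderOf c = p := by
      rcases (Nat.dvd_prime (Fact.out : p.Prime)).1
        (hz ▸ orderOf_dvd_of_mem_zpowers ((hcen c).1 hc)) with h | h
      · exact absurd (orderOf_eq_one_iff.1 h) hc1
      · exact h
    have heq : zpowers c = zpowers z := by
      refine eq_of_le_of_card_ge (zpowers_le.2 ((hcen c).1 hc)) ?_
      rw [Nat.card_zpowers, Nat.card_zpowers, hord, hz]
    obtain ⟨i, hi⟩ := mem_powers_iff_mem_zpowers.2 (heq ▸ mem_zpowers z)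
    rw [← hi]
    show ρ (c ^ i) = 1
    rw [map_pow, h1, one_pow]
  -- the characters
  let ω : (E ⧸ center E) → (E →* K) := fun q =>
    { toFun := fun x => ⟨ρ ⁅x, q.out⁆, hsc _ (hder _ _)⟩
      map_one' := Subtype.ext (by simp)
      map_mul' := fun x y => Subtype.ext (by
        show ρ ⁅x * y, q.out⁆ = ρ ⁅x, q.out⁆ * ρ ⁅y, q.out⁆
        rw [← map_mul]
        congr 1
        rw [commutatorElement_mul_left_eq_conj_mul]
        have h := mem_center_iff.1 (hder y q.out) x
        rw [h, mul_inv_cancel_right, ← mem_center_iff.1 (hder y q.out) ⁅x, q.out⁆]) }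
  have hω : Function.Injective ω := by
    intro q q' h
    have hall : ∀ x : E, ⁅x, q.out⁆ = ⁅x, q'.out⁆ := by
      intro x
      have h1 : ρ ⁅x, q.out⁆ = ρ ⁅x, q'.out⁆ := congrArg (fun f : E →* K => ((f x : K) : AddMonoid.End M)) h
      have h2 : ⁅x, q.out⁆ * ⁅x, q'.out⁆⁻¹ = 1 := by
        refine hinj _ (mul_mem (hder _ _) (inv_mem (hder _ _))) ?_
        rw [map_mul, h1, ← map_mul, mul_inv_cancel, map_one]
      exact mul_inv_eq_one.1 h2
    rw [← QuotientGroup.out_eq' q, ← QuotientGroup.out_eq' q', QuotientGroup.eq]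
    refine mem_center_iff.2 fun x => ?_
    have h := hall x
    simp only [commutatorElement_def] at h
    calc x * (q.out⁻¹ * q'.out) = x * q.out⁻¹ * (q'.out * x⁻¹ * q'.out⁻¹) * q'.out * x := by group
      _ = x * q.out⁻¹ * (x⁻¹ * (x * q'.out * x⁻¹ * q'.out⁻¹)) * q'.out * x := by group
      _ = x * q.out⁻¹ * (x⁻¹ * (x * q.out * x⁻¹ * q.out⁻¹)) * q'.out * x := by rw [h]
      _ = q.out⁻¹ * q'.out * x := by group
  have hli : LinearIndependent K fun q : E ⧸ center E => L q.out := by
    rw [Fintype.linearIndependent_iff]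
    intro c hc q₀
    by_contra hq₀
    have key : ∀ (x : E) (m : M), ∑ q, (c q * ω q x) • L q.out m = 0 := by
      intro x m
      have h1 := LinearMap.congr_fun hc (L x⁻¹ m)
      simp only [LinearMap.sum_apply, LinearMap.smul_apply, LinearMap.zero_apply] at h1
      have h2 := congrArg (L x) h1
      rw [map_sum, map_zero] at h2
      rw [← h2]
      refine Finset.sum_congr rfl fun q _ => ?_
      rw [map_smul, mul_smul]
      congr 1
      rw [← hLmul, ← hLmul]
      show ρ ⁅x, q.out⁆ (ρ q.out m) = ρ (x * q.out * x⁻¹) m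
      rw [show x * q.out * x⁻¹ = ⁅x, q.out⁆ * q.out by simp [commutatorElement_def], map_mul]
      rfl
    obtain ⟨φ, hφ⟩ : ∃ φ : Module.Dual K M, φ v₀ ≠ 0 :=
      Module.Projective.exists_dual_ne_zero K hv₀
    have hli2 := (linearIndependent_monoidHom E K).comp ω hω
    rw [Fintype.linearIndependent_iff] at hli2
    have h3 := hli2 (fun q => c q * φ (L q.out (L q₀.out⁻¹ v₀))) (by
      funext x
      have := congrArg φ (key x (L q₀.out⁻¹ v₀))
      rw [map_sum, map_zero] at this
      simp only [Function.comp_apply, Finset.sum_apply, Pi.smul_apply, smul_eq_mul, Pi.zero_apply]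
      rw [← this]
      refine Finset.sum_congr rfl fun q _ => ?_
      rw [map_smul, smul_eq_mul]
      ring) q₀
    rw [← hLmul, mul_inv_cancel, hL1, mul_eq_zero] at h3
    exact h3.elim hq₀ hφ
  haveI : Module.Finite K M := Module.Finite.of_finite
  have hdim : p ^ (2 * w) ≤ Module.finrank K M * Module.finrank K M := by
    have := hli.fintype_card_le_finrank
    rwa [Module.finrank_linearMap, Fintype.card_eq_nat_card, hindex] at this
  have hm : p ^ w ≤ Module.finrank K M := by
    rw [show 2 * w = w + w by ring, pow_add] at hdim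
    exact Nat.mul_self_le_mul_self_iff.1 hdim
  haveI := ringChar.charP K
  obtain ⟨j, hq, hj⟩ := FiniteField.card K (ringChar K)
  have hr0 : (r : K) = 0 := Subtype.ext (AddMonoidHom.ext fun m => by
    have h1 : ((r : K) : AddMonoid.End M) = (r : AddMonoid.End M) := by simp
    show ((r : K) : AddMonoid.End M) m = 0
    rw [h1, AddMonoid.End.natCast_apply, hM])
  have hchar : ringChar K = r :=
    (Nat.prime_dvd_prime_iff_eq hq hr.out).1 ((ringChar.spec K r).1 hr0)
  rw [hchar, Fintype.card_eq_nat_card] at hj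
  have hz' : ρ z ∈ K := Subring.subset_closure (Set.mem_singleton _)
  have hpj : p ∣ r ^ (j : ℕ) - 1 := by
    rw [← hj]
    have hpow : (⟨ρ z, hz'⟩ : K) ^ p = 1 := Subtype.ext (by
      show ρ z ^ p = 1
      rw [← map_pow, ← hz, pow_orderOf_eq_one, map_one])
    let u : Kˣ := (IsUnit.of_pow_eq_one hpow (Fact.out : p.Prime).ne_zero).unit
    have hu' : (u : K) = ⟨ρ z, hz'⟩ := IsUnit.unit_spec _
    have hu : orderOf u = p := by
      refine orderOf_eq_prime (Units.ext ?_) fun h => hne ?_
      · rw [Units.val_pow_eq_pow_val, hu', hpow, Units.val_one]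
      · rw [h, Units.val_one] at hu'
        exact (congrArg Subtype.val hu').symm
    rw [← Fintype.card_eq_nat_card, ← Fintype.card_units, ← hu]
    exact orderOf_dvd_card
  have hnj : n ≤ j := hn _ j.pos hpj
  rw [Module.natCard_eq_pow_finrank (K := K), hj, ← pow_mul]
  exact Nat.pow_le_pow_right hr.out.pos (Nat.mul_le_mul hnj hm)

open scoped IsMulCommutative in
theorem bound {G : Type*} [Group G] [Finite G] {p r : ℕ} [Fact p.Prime] [hr : Fact r.Prime]
    (hpr : p ≠ r) (E A : Subgroup G) (w : ℕ) (hE : Cfsg.IsExtraspecial p ↥E)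
    (hEcard : Nat.card ↥E = p ^ (2 * w + 1)) (hA : Cfsg.IsElementaryAbelian r A)
    (hnorm : E ≤ normalizer (A : Set G))
    (hfaith : E ⊓ centralizer (A : Set G) = ⊥) (n : ℕ)
    (hmin : ∀ k : ℕ, 1 ≤ k → p ∣ r ^ k - 1 → n ≤ k) : r ^ (n * p ^ w) ≤ Nat.card ↥A := by
  classical
  obtain ⟨⟨-, -, hcomm⟩, hcen⟩ := hE
  obtain ⟨z, hz⟩ : ∃ z : E, zpowers z = center E := by
    obtain ⟨c, hc, hc1⟩ := (bot_or_exists_ne_one (center E)).resolve_left fun h => by
      rw [h, card_bot] at hcen
      exact (Fact.out : p.Prime).one_lt.ne hcen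
    refine ⟨c, eq_of_le_of_card_ge (zpowers_le.2 hc) ?_⟩
    rw [hcen, Nat.card_zpowers]
    rcases (Nat.dvd_prime (Fact.out : p.Prime)).1
      (hcen ▸ (center E).orderOf_dvd_natCard hc) with h | h
    · exact absurd (orderOf_eq_one_iff.1 h) hc1
    · exact h.ge
  have hzord : orderOf z = p := by rw [← Nat.card_zpowers, hz, hcen]
  set Z := zpowers (z : G) with hZ
  have hZcard : Nat.card Z = p := by rw [hZ, Nat.card_zpowers, Subgroup.orderOf_coe, hzord]
  have hEZ : E ≤ centralizer (Z : Set G) := by
    rw [le_centralizer_iff, hZ, zpowers_le, mem_centralizer_iff]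
    intro e he
    exact congrArg Subtype.val (mem_center_iff.1 (hz ▸ mem_zpowers z) ⟨e, he⟩)
  have hzA : ¬ Z ≤ centralizer (A : Set G) := by
    intro h
    have : (z : G) ∈ E ⊓ centralizer (A : Set G) := ⟨z.2, h (mem_zpowers _)⟩
    rw [hfaith, mem_bot] at this
    rw [← Subgroup.orderOf_coe, this, orderOf_one] at hzord
    exact (Fact.out : p.Prime).one_lt.ne hzord
  obtain ⟨V, hVA, hV⟩ := Finite.exists_le_minimal
    (p := fun V : Subgroup G => V ≤ A ∧ E ≤ normalizer (V : Set G) ∧ ¬ Z ≤ centralizer (V : Set G))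
    (a := A) ⟨le_rfl, hnorm, hzA⟩
  obtain ⟨⟨-, hEV, hZV⟩, hminV⟩ := hV
  haveI : IsMulCommutative A := hA.1
  haveI : IsMulCommutative V := ⟨⟨fun a b => by
    have h : (⟨a, hVA a.2⟩ : A) * ⟨b, hVA b.2⟩ = ⟨b, hVA b.2⟩ * ⟨a, hVA a.2⟩ :=
      IsMulCommutative.is_comm.comm _ _
    exact Subtype.ext (congrArg (fun x : A => (x : G)) h)⟩⟩
  have hZn : Z ≤ normalizer (V : Set G) := le_trans (zpowers_le.2 z.2) hEV
  have hcop : (Nat.card Z).Coprime (Nat.card V) := by
    rw [hZcard, (Fact.out : p.Prime).coprime_iff_not_dvd]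
    intro hdvd
    obtain ⟨v, hv⟩ := exists_prime_orderOf_dvd_card' p hdvd
    have h1 : (v : G) ^ r = 1 := hA.2 _ (hVA v.2)
    rw [← Subgroup.orderOf_coe] at hv
    exact hpr ((Nat.prime_dvd_prime_iff_eq Fact.out hr.out).1 (hv ▸ orderOf_dvd_of_pow_eq_one h1))
  have hfix := CoprimeAct.fixed_inf_commutator_abelian hZn hcop
  have hVZ : ⁅V, Z⁆ = V := by
    have hle : ⁅V, Z⁆ ≤ V := le_normalizer_iff_commutator_le_left.1 hZn
    refine le_antisymm hle (hminV ⟨hle.trans hVA, ?_, fun h => hZV ?_⟩ hle)
    · exact (le_inf hEV (hEZ.trans (centralizer_le_normalizer _))).trans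
        (FStarAct.normalizer_inf_le_commutator V Z)
    · rw [le_centralizer_iff] at h ⊢
      have h2 : ⁅V, Z⁆ ≤ ⊥ := hfix ▸ le_inf (le_inf hle h) le_rfl
      exact commutator_eq_bot_iff_le_centralizer.1 (le_bot_iff.1 h2)
  rw [hVZ] at hfix
  -- the action
  let φ : E →* MulAut V := (V.normalizerMonoidHom).comp (Subgroup.inclusion hEV)
  let ρ : E →* AddMonoid.End (Additive V) :=
    { toFun := fun e => MonoidHom.toAdditive (φ e).toMonoidHom
      map_one' := AddMonoidHom.ext fun v => by
        show Additive.ofMul ((φ 1) (Additive.toMul v)) = v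
        rw [map_one]
        rfl
      map_mul' := fun x y => AddMonoidHom.ext fun v => by
        show Additive.ofMul ((φ (x * y)) (Additive.toMul v)) =
          Additive.ofMul ((φ x) ((φ y) (Additive.toMul v)))
        rw [map_mul]
        rfl }
  have hρ : ∀ (e : E) (v : V), ((Additive.toMul (ρ e (Additive.ofMul v)) : V) : G) =
      (e : G) * v * (e : G)⁻¹ := fun e v => rfl
  have hMr : ∀ m : Additive V, r • m = 0 := fun m => by
    apply Additive.toMul.injective
    rw [toMul_nsmul, toMul_zero]
    exact Subtype.ext (by simpa using hA.2 _ (hVA (Additive.toMul m).2))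
  have hirr : ∀ W : AddSubgroup (Additive V),
      (∀ e : E, ∀ m ∈ W, ρ e m ∈ W) → W ≠ ⊥ → W = ⊤ := by
    intro W hW hne
    let W' : Subgroup V := AddSubgroup.toSubgroup' W
    have hmem : ∀ v : V, v ∈ W' ↔ Additive.ofMul v ∈ W := fun v => Iff.rfl
    have hEW : E ≤ normalizer ((W'.map V.subtype : Subgroup G) : Set G) := by
      intro e he
      refine mem_normalizer_fintype fun x hx => ?_
      obtain ⟨v, hv, rfl⟩ := hx
      exact ⟨Additive.toMul (ρ ⟨e, he⟩ (Additive.ofMul v)), (hmem _).2 (hW _ _ ((hmem v).1 hv)),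
        hρ _ _⟩
    by_cases hZW : Z ≤ centralizer ((W'.map V.subtype : Subgroup G) : Set G)
    · exfalso
      apply hne
      have h2 : W'.map V.subtype ≤ ⊥ :=
        hfix ▸ le_inf (le_inf (map_subtype_le _) (le_centralizer_iff.1 hZW)) (map_subtype_le _)
      rw [le_bot_iff, map_eq_bot_iff_of_injective _ V.subtype_injective] at h2
      rw [eq_bot_iff]
      intro m hm
      have h3 : Additive.toMul m ∈ W' := (hmem _).2 hm
      rw [h2, Subgroup.mem_bot] at h3
      exact AddSubgroup.mem_bot.2 (Additive.toMul.injective h3)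
    · have h2 := hminV ⟨(map_subtype_le _).trans hVA, hEW, hZW⟩ (map_subtype_le _)
      refine eq_top_iff.2 fun m _ => ?_
      obtain ⟨v, hv, hvm⟩ := h2 (Additive.toMul m).2
      have : Additive.ofMul v = m := congrArg Additive.ofMul (Subtype.ext hvm)
      exact this ▸ (hmem v).1 hv
  have hne : ρ z ≠ 1 := by
    intro h
    apply hZV
    rw [hZ, zpowers_le, mem_centralizer_iff]
    intro v hv
    have := hρ z ⟨v, hv⟩
    rw [h] at this
    have h2 : v = (z : G) * v * (z : G)⁻¹ := this
    nth_rw 1 [h2]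
    group
  refine le_trans (card_bound (M := Additive V) ρ z hzord (fun x => by rw [hz]) ?_ hne hMr hirr w n ?_ hmin) ?_
  · intro x y
    rw [← hcomm, _root_.commutator_def]
    exact commutator_mem_commutator (mem_top x) (mem_top y)
  · have h1 := card_eq_card_quotient_mul_card_subgroup (center E)
    rw [hEcard, hcen, pow_succ] at h1
    exact (Nat.eq_of_mul_eq_mul_right (Fact.out : p.Prime).pos h1).symm
  · rw [Nat.card_congr Additive.toMul]
    exact Subgroup.card_le_of_le hVA

end CfsgLib.ExtraAction
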